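import Groth.Agent.AVEuler.Basic
import Groth.Agent.AVMukai.Kernel
import Groth.Agent.FMTool.AV
import Groth.Agent.AVDeg.Poincare

/-!
`χ(c)² = deg φ_c` : the Mumford class is pulled back from symmetrisations on the square.
-/

set_option autoImplicit false
set_option backward.isDefEq.respectTransparency false
set_option backward.isDefEq.respectTransparency.types false
set_option linter.style.haveILetI false
set_option linter.unusedSectionVars false
set_option maxHeartbeats 1000000

universe u

open CategoryTheory CategoryTheory.Limits MonoidalCategory CartesianMonoidalCategory MonObj GrpObj AlgebraicGeometry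
open Groth.Agent.W7Cube (pull pull_pull pc pull_pc pc_id pc_one pull_cls cube_rel)

noncomputable section

namespace Groth.Agent.AVEuler

attribute [local instance] W7Cube.law AVDeg.overInst
attribute [local instance] isProper_tensor geometricallyIntegral_tensor isCommMonObj_tensor

variable {k : Type u} [Field k] {A : Over (Spec (CommRingCat.of k))} [GrpObj A] [IsProper A.hom]
  [GeometricallyIntegral A.hom] [IsCommMonObj A]

/-- the sum and difference map -/
def sumDiff : A ⊗ A ⟶ A ⊗ A := lift (fst A A * snd A A) (fst A A * (snd A A)⁻¹)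

theorem isMonHom_sumDiff : IsMonHom (sumDiff (A := A)) := by
  haveI : IsMonHom ((snd A A)⁻¹) := by rw [← zpow_neg_one]; exact AVDeg.isMonHom_zpow _ (-1)
  haveI := AVDeg.isMonHom_mul' (fst A A) (snd A A)
  haveI := AVDeg.isMonHom_mul' (fst A A) (snd A A)⁻¹
  unfold sumDiff
  infer_instance

theorem sumDiff_sq : sumDiff (A := A) ≫ sumDiff = 𝟙 (A ⊗ A) ^ 2 := by
  apply CartesianMonoidalCategory.hom_ext <;>
    simp only [sumDiff, pow_two, Category.assoc, MonObj.mul_comp, lift_fst, lift_snd, MonObj.comp_mul, GrpObj.comp_inv,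
      Category.id_comp]
  · simp [mul_assoc, mul_comm, mul_left_comm]
  · simp [mul_assoc, mul_comm, mul_left_comm]

/-- the sum and difference map is finite of degree `2^(2g)` -/
theorem finite_sumDiff {g : ℕ} (hA : topologicalKrullDim A.left = (g : WithBot ℕ∞)) :
    IsFinite (sumDiff (A := A)).left ∧ ∀ b, (sumDiff (A := A)).left.finrank b = 2 ^ (2 * g) := by
  haveI := isMonHom_sumDiff (A := A)
  haveI : Nonempty (A ⊗ A).left := ⟨η[A ⊗ A].left (IsLocalRing.closedPoint k)⟩
  have h2 : IsFinite (sumDiff (A := A) ≫ sumDiff).left := by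
    rw [sumDiff_sq]; exact AVDeg.isFinite_pow_id (by norm_num)
  haveI := AVDeg.isProper_hom (sumDiff (A := A))
  haveI : IsFinite ((sumDiff (A := A)).left ≫ (sumDiff (A := A)).left) := by rwa [← Over.comp_left]
  haveI hf : IsFinite (sumDiff (A := A)).left := IsFinite.of_comp _ (sumDiff (A := A)).left
  refine ⟨hf, fun b => ?_⟩
  rw [AVDeg.finrank_eq_deg (dim_sq hA) _ hf b]
  have h := AVDeg.deg_comp (dim_sq hA) (sumDiff (A := A)) sumDiff
  rw [sumDiff_sq, AVDeg.deg_pow_id (dim_sq hA), ← pow_two, mul_comm 2 (2 * g), pow_mul] at h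
  exact (Nat.pow_left_injective two_ne_zero h).symm

theorem pc_sumDiff_lam (c : PicLoc.PicSet A.left) :
    pc (AVMukai.lam c (fst A A) (snd A A)) sumDiff =
      box (c * pc c (𝟙 A)⁻¹) (c * pc c (𝟙 A)⁻¹)⁻¹ := by
  have h1 := cube_rel c (fst A A) (snd A A) (snd A A)⁻¹
  have h2 := cube_rel c (fst A A) (fst A A) (fst A A)⁻¹
  rw [mul_inv_cancel_right, mul_inv_cancel, pc_one, _root_.mul_one] at h1
  rw [mul_inv_cancel_right, mul_inv_cancel, pc_one, _root_.mul_one, _root_.mul_one] at h2
  rw [pc, AVMukai.pull_lam]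
  simp only [AVMukai.lam, sumDiff, box, pc, map_mul, map_inv, pull_pull, ← Over.comp_left, lift_fst, lift_snd,
    GrpObj.comp_inv, Category.comp_id] at h1 h2 ⊢
  rw [show fst A A * snd A A * (fst A A * (snd A A)⁻¹) = fst A A * fst A A by
    rw [_root_.mul_mul_mul_comm, mul_inv_cancel, _root_.mul_one]]
  rw [mul_assoc _ (_)⁻¹ (_)⁻¹, ← _root_.mul_inv, ← h1, ← h2]
  apply Additive.ofMul.injective
  simp only [ofMul_mul, ofMul_inv]
  abel

/-- Euler characteristic of a Mumford class -/
theorem χc_lam {g : ℕ} (hA : topologicalKrullDim A.left = (g : WithBot ℕ∞)) (c : PicLoc.PicSet A.left) :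
    χc (AVMukai.lam c (fst A A) (snd A A)) = (-1) ^ g * χc c ^ 2 := by
  haveI := isMonHom_sumDiff (A := A)
  obtain ⟨hf, hd⟩ := finite_sumDiff hA
  let o : (A ⊗ A).left := η[A ⊗ A].left (IsLocalRing.closedPoint k)
  have h := χc_pc (dim_sq hA) (dim_sq hA) sumDiff hf o (AVMukai.lam c (fst A A) (snd A A))
  rw [pc_sumDiff_lam, χc_box, χc_inv hA, χc_symm hA, hd o] at h
  push_cast at h
  refine mul_left_cancel₀ (pow_ne_zero (2 * g) (two_ne_zero (α := ℤ))) ?_
  rw [← h, mul_comm 2 g, pow_mul]
  ring

end Groth.Agent.AVEuler
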