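import Groth.Agent.GrpBasic.Perfect
import Groth.Agent.W7Cube.Group
import Groth.Agent.W7See.Subscheme

/-!
Abelian varieties given as geometrically integral groups are smooth with connected fibres.
-/

set_option autoImplicit false
set_option backward.isDefEq.respectTransparency false
set_option backward.isDefEq.respectTransparency.types false
set_option linter.style.haveILetI false

universe u

open CategoryTheory CategoryTheory.Limits MonoidalCategory CartesianMonoidalCategory MonObj GrpObj AlgebraicGeometry

noncomputable section

namespace Groth.Agent.AVEuler

/-- geometrically reduced groups locally of finite type over a field are smooth -/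
theorem smooth_of_geometricallyReduced {K : Type u} [Field K] (G : Over (Spec (CommRingCat.of K))) [GrpObj G]
    [LocallyOfFiniteType G.hom] [GeometricallyReduced G.hom] : Smooth G.hom := by
  let jK : Spec (CommRingCat.of (AlgebraicClosure K)) ⟶ Spec (CommRingCat.of K) :=
    Spec.map (CommRingCat.ofHom (algebraMap K (AlgebraicClosure K)))
  apply MorphismProperty.of_pullback_snd_of_descendsAlong (Q := @Surjective ⊓ @Flat ⊓ @QuasiCompact) (g := jK)
  · exact ⟨⟨inferInstance, inferInstance⟩, inferInstance⟩
  · letI : GrpObj (Over.mk G.hom) := inferInstanceAs (GrpObj G)
    let : GrpObj (Over.mk (pullback.snd G.hom jK)) := Over.grpObjMkPullbackSnd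
    have : IsReduced (pullback G.hom jK) :=
      GeometricallyReduced.geometrically_isReduced (f := G.hom) jK _ _ (IsPullback.of_hasPullback G.hom jK)
    exact GrpBasic.smooth_of_grpObj_algClosed _

theorem smooth_av {K : Type u} [Field K] (G : Over (Spec (CommRingCat.of K))) [GrpObj G]
    [IsProper G.hom] [GeometricallyIntegral G.hom] : Smooth G.hom :=
  smooth_of_geometricallyReduced G

theorem connected_av {K : Type u} [Field K] (G : Over (Spec (CommRingCat.of K)))
    [GeometricallyIntegral G.hom] : GeometricallyConnected G.hom :=
  W7See.geometricallyConnected_of_geometricallyIntegral G.hom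

end Groth.Agent.AVEuler
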