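import Groth.Agent.AVEuler.Transpose
import Groth.Agent.AVEuler.Smooth
import Groth.Agent.AgSymm.Fibre
import Groth.Agent.AgSymm.Family

/-!
Transporting base-changed Mumford data along a homomorphism and its transpose.
-/

set_option autoImplicit false
set_option backward.isDefEq.respectTransparency false
set_option backward.isDefEq.respectTransparency.types false
set_option linter.style.haveILetI false
set_option linter.unusedSectionVars false
set_option maxHeartbeats 1000000

universe u

open CategoryTheory CategoryTheory.Limits MonoidalCategory CartesianMonoidalCategory MonObj GrpObj AlgebraicGeometry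
open Groth.Agent.W7Cube (pull pull_pull pc pull_pc pc_id pc_one pull_cls)
open Groth.Agent.AbPrim (val pull_val)

noncomputable section

namespace Groth.Agent.AVEuler

attribute [local instance] W7Cube.law AVDeg.overInst

variable {k : Type u} [Field k] {Ω : Type u} [Field Ω] (t : Spec (CommRingCat.of Ω) ⟶ Spec (CommRingCat.of k))

/-- a base change, seen over the ground field -/
abbrev down (X : Over (Spec (CommRingCat.of k))) : Over (Spec (CommRingCat.of k)) :=
  Over.mk ((Red.bc t X).hom ≫ t)

/-- the projection to the variety -/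
abbrev prDown (X : Over (Spec (CommRingCat.of k))) : down t X ⟶ X :=
  Over.homMk (pullback.fst X.hom t) pullback.condition

variable {X Y : Over (Spec (CommRingCat.of k))}

/-- a homomorphism seen on the base changes -/
abbrev mapDown (f : X ⟶ Y) : down t X ⟶ down t Y :=
  Over.homMk ((Over.pullback t).map f).left (by
    simpa using congrArg (· ≫ t) (Over.w ((Over.pullback t).map f)))

theorem mapDown_pr (f : X ⟶ Y) : mapDown t f ≫ prDown t Y = prDown t X ≫ f := by
  apply Over.OverMorphism.ext
  simp [mapDown, prDown, Over.pullback]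

theorem square_xtIso (f : X ⟶ Y) :
    AbDual.bcMap f (down t X) ≫ PicF.XTmap Y.hom (mapDown t f) ≫ (AgPol.bcXTIso t Y (Red.bc t Y)).inv =
      (AgPol.bcXTIso t X (Red.bc t X)).inv ≫
        (((Over.pullback t).map f) ⊗ₘ ((Over.pullback t).map f)).left := by
  rw [← Category.assoc, Iso.comp_inv_eq, Category.assoc, Iso.eq_inv_comp]
  refine pullback.hom_ext ?_ ?_ <;>
    simp [AgPol.bcXTIso, AbDual.bcMap, PicF.XTmap, mapDown, Over.pullback, Over.tensorHom_left] <;> rfl

variable [GrpObj Y] [IsCommMonObj Y] [IsProper Y.hom] [GeometricallyIntegral Y.hom]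

/-- the Mumford class of a base change is in `Pic⁰` over the ground field -/
theorem picZero_lambda {L : (Red.bc t Y).left.Modules} (hL : PicF.IsInvertible L)
    {N : (PicF.XT (Red.bc t Y).hom (Red.bc t Y)).Modules} (hN : PicF.IsInvertible N)
    (hΛ : AgPol.IsLambdaSheaf (μ[Red.bc t Y].left : PicF.XT (Red.bc t Y).hom (Red.bc t Y) ⟶ (Red.bc t Y).left)
      (fst (Red.bc t Y) (Red.bc t Y)).left (snd (Red.bc t Y) (Red.bc t Y)).left L N) :
    AbDual.IsPicZeroCl Y.hom (down t Y) (pull (AgPol.bcXTIso t Y (Red.bc t Y)).inv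
      (PicGrp.cls (Y := PicF.XT (Red.bc t Y).hom (Red.bc t Y)) N hN)).1 := by
  let B := Red.bc t Y
  haveI : GeometricallyConnected Y.hom := connected_av Y
  haveI : GeometricallyConnected B.hom := inferInstanceAs (GeometricallyConnected (pullback.snd Y.hom t))
  haveI : IsProper B.hom := inferInstanceAs (IsProper (pullback.snd Y.hom t))
  haveI : GeometricallyIntegral B.hom := inferInstanceAs (GeometricallyIntegral (pullback.snd Y.hom t))
  haveI : IsCommMonObj B := isCommMonObj_of_isProper_of_geometricallyIntegral B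
  let e : Over.mk t ⟶ down t Y := Over.homMk η[B].left (by
    simpa using congrArg (· ≫ t) (Over.w η[B]))
  refine AgSymm.picZero_of_family (X := Y) (T := down t Y) t B.hom rfl e (Over.w η[B]) _ ?_
  let c := PicGrp.cls L hL
  have hN' : PicGrp.cls (Y := (B ⊗ B).left) N hN = AVMukai.lam c (fst B B) (snd B B) := by
    have h1 : PicGrp.cls (Y := (B ⊗ B).left) N hN * pc c (fst B B) * pc c (snd B B) = pc c μ[B] := by
      rw [pc, pc, pc, pull_cls, pull_cls, pull_cls]
      refine Subtype.ext ?_
      rw [PicGrp.mul_val, PicGrp.cls_mul_cls_val]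
      exact (PicGrp.cl_eq_cl_iff _ _).2 hΛ
    rw [AVMukai.lam, ← MonObj.mul_eq_mul B, ← h1]
    apply Additive.ofMul.injective
    simp only [ofMul_mul, ofMul_inv]
    abel
  let m : (Y ⊗ Over.mk t).left ⟶ (B ⊗ B).left := (Y ◁ e).left ≫ (AgPol.bcXTIso t Y B).inv
  let V : Over (Spec (CommRingCat.of Ω)) := Over.mk (pullback.snd Y.hom t : (Y ⊗ Over.mk t).left ⟶ _)
  have hs : (AgPol.bcXTIso t Y B).inv ≫ (snd B B).left = (snd Y (down t Y)).left := by
    simp [AgPol.bcXTIso, B]
  have hm2 : m ≫ (snd B B).left = pullback.snd Y.hom t ≫ η[B].left := by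
    simp only [m, Category.assoc]
    rw [hs]
    exact congrArg (fun w => w.left) (whiskerLeft_snd Y e)
  let mh : V ⟶ B ⊗ B := Over.homMk m (by
    change m ≫ (B ⊗ B).hom = pullback.snd Y.hom t
    rw [← Over.w (snd B B), ← Category.assoc, hm2, Category.assoc, Over.w η[B]]
    simp)
  have hm1 : mh ≫ snd B B = 1 := by
    apply Over.OverMorphism.ext
    rw [Over.comp_left, Hom.one_def, Over.comp_left, Over.toUnit_left]
    exact hm2
  refine (pull_pull _ _ _).trans ?_
  change pull mh.left (PicGrp.cls (Y := (B ⊗ B).left) N hN) = 1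
  rw [hN', AVMukai.pull_lam, hm1, AVMukai.lam_comm, AVMukai.lam_one]

variable [GrpObj X] [IsCommMonObj X] [IsProper X.hom] [GeometricallyIntegral X.hom]
  {Xt Yt : Over (Spec (CommRingCat.of k))} [GrpObj Xt] [GrpObj Yt] {φX : AgPol.DualMap X Xt} {φY : AgPol.DualMap Y Yt}

/-- **pullback of base-changed Mumford data** -/
theorem isLambda_pullback (hY : AbDual.IsDualAV Scheme.fppfPrecoverage Y Yt φY) (f : X ⟶ Y) [IsMonHom f]
    (ft : Yt ⟶ Xt) (hft : AbDual.IsTranspose f φX φY ft) (lam : Y ⟶ Yt) {L : (Red.bc t Y).left.Modules}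
    (hL : PicF.IsInvertible L)
    (h : AgPol.IsLambda (Red.bc t Y) (Red.bc t Yt) (AgPol.bcDual t Y Yt φY) L ((Over.pullback t).map lam)) :
    AgPol.IsLambda (Red.bc t X) (Red.bc t Xt) (AgPol.bcDual t X Xt φX)
      ((Scheme.Modules.pullback ((Over.pullback t).map f).left).obj L) ((Over.pullback t).map (f ≫ lam ≫ ft)) := by
  obtain ⟨N, hN, hΛ, hφ⟩ := h
  have hz := picZero_lambda t hL hN hΛ
  let F := (Over.pullback t).map f
  haveI : IsMonHom F := inferInstance
  let N' : (PicF.XT (Red.bc t X).hom (Red.bc t X)).Modules := (Scheme.Modules.pullback (F ⊗ₘ F).left).obj N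
  have hN' : PicF.IsInvertible N' := PicLoc.isInvertible_pullback _ hN
  refine ⟨N', hN', ?_, ?_⟩
  · let hL' := PicLoc.isInvertible_pullback F.left hL
    refine (PicGrp.cl_eq_cl_iff _ _).1 ?_
    have h1 : PicGrp.cls (Y := (Red.bc t Y ⊗ Red.bc t Y).left) N hN * pc (PicGrp.cls L hL) (fst _ _) *
        pc (PicGrp.cls L hL) (snd _ _) = pc (PicGrp.cls L hL) μ[Red.bc t Y] := by
      rw [pc, pc, pc, pull_cls, pull_cls, pull_cls]
      refine Subtype.ext ?_
      rw [PicGrp.mul_val, PicGrp.cls_mul_cls_val]
      exact (PicGrp.cl_eq_cl_iff _ _).2 hΛ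
    have h2 := congrArg (pull (F ⊗ₘ F).left) h1
    simp only [map_mul, pull_pc, tensorHom_fst, tensorHom_snd, ← IsMonHom.mul_hom] at h2
    rw [pull_cls] at h2
    have h3 : ∀ g : Red.bc t X ⊗ Red.bc t X ⟶ Red.bc t X,
        pc (PicGrp.cls L hL) (g ≫ F) = PicGrp.cls _ (PicLoc.isInvertible_pullback g.left hL') := fun g => by
      rw [pc, Over.comp_left, ← pull_pull, pull_cls _ L hL, pull_cls]
    rw [h3, h3, h3] at h2
    have h4 := congrArg Subtype.val h2
    rw [PicGrp.mul_val, PicGrp.cls_mul_cls_val] at h4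
    exact h4
  · apply Over.OverMorphism.ext
    refine pullback.hom_ext ?_ ?_
    · have hφ' : φY (down t Y) (pull (AgPol.bcXTIso t Y (Red.bc t Y)).inv
          (PicGrp.cls (Y := PicF.XT (Red.bc t Y).hom (Red.bc t Y)) N hN)).1 = prDown t Y ≫ lam := by
        apply Over.OverMorphism.ext
        have := congrArg (fun m => m.left ≫ pullback.fst Yt.hom t) hφ
        simp only [AgPol.bcDual, Over.homMk_left, pullback.lift_fst] at this
        refine Eq.trans ?_ (this.trans ?_)
        · rfl
        · simp [Over.pullback, prDown]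
      have hz' := LBDesc.picZero_XTmap Y.hom (mapDown t f) hz
      have e := hft (down t X) _ hz'
      rw [show φY (down t X) (pull (PicF.XTmap Y.hom (mapDown t f)) (pull (AgPol.bcXTIso t Y (Red.bc t Y)).inv
          (PicGrp.cls (Y := PicF.XT (Red.bc t Y).hom (Red.bc t Y)) N hN))).1 = mapDown t f ≫ prDown t Y ≫ lam from
        ((hY.relPic.natural (down t Y) (down t X) (mapDown t f) _ hz).trans (by rw [hφ'])), ← Category.assoc (mapDown t f),
        mapDown_pr] at e
      have e2 : PicF.pullCl (AgPol.bcXTIso t X (Red.bc t X)).inv (PicF.cl N') =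
          PicF.pullCl (AbDual.bcMap f (down t X)) (pull (PicF.XTmap Y.hom (mapDown t f))
            (pull (AgPol.bcXTIso t Y (Red.bc t Y)).inv
              (PicGrp.cls (Y := PicF.XT (Red.bc t Y).hom (Red.bc t Y)) N hN))).1 := by
        change (pull (AgPol.bcXTIso t X (Red.bc t X)).inv (PicGrp.cls N' hN')).1 =
          (pull (AbDual.bcMap f (down t X)) (pull (PicF.XTmap Y.hom (mapDown t f))
            (pull (AgPol.bcXTIso t Y (Red.bc t Y)).inv
              (PicGrp.cls (Y := PicF.XT (Red.bc t Y).hom (Red.bc t Y)) N hN)))).1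
        rw [pull_pull, pull_pull, show PicGrp.cls N' hN' = pull (F ⊗ₘ F).left
          (PicGrp.cls (Y := PicF.XT (Red.bc t Y).hom (Red.bc t Y)) N hN) from (pull_cls _ N hN).symm, Category.assoc,
          square_xtIso]
        exact congrArg Subtype.val (pull_pull _ _ _)
      simp only [AgPol.bcDual, Over.homMk_left, pullback.lift_fst]
      change (φX (down t X) _).left = _
      rw [e2, e]
      simp [Over.pullback, prDown]
    · simp [AgPol.bcDual, Over.pullback]

end Groth.Agent.AVEuler
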