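import Groth.Agent.AVEuler.Product
import Groth.Agent.AVDeg.Pow
import Groth.Agent.AgVanish.Invariant

/-!
The Euler characteristic of classes on abelian varieties: inverses, symmetrisations, isogenies, products.
-/

set_option autoImplicit false
set_option backward.isDefEq.respectTransparency false
set_option backward.isDefEq.respectTransparency.types false
set_option linter.style.haveILetI false
set_option linter.unusedSectionVars false
set_option maxHeartbeats 1000000

universe u

open CategoryTheory CategoryTheory.Limits MonoidalCategory CartesianMonoidalCategory MonObj GrpObj AlgebraicGeometry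
open Groth.Agent.W7Cube (pull pull_pull pc pull_pc pc_id pull_cls)
open Groth.Agent.AVDeg (rep isInvertible_rep cls_rep nonempty_rep_iso top topLin topLin_apply)

noncomputable section

namespace Groth.Agent.AVEuler

attribute [local instance] W7Cube.law AVDeg.overInst

variable {k : Type u} [Field k] {A : Over (Spec (CommRingCat.of k))} [GrpObj A] [IsProper A.hom]
  [GeometricallyIntegral A.hom] [IsCommMonObj A]

/-- the Euler characteristic of a class -/
def χc (c : PicLoc.PicSet A.left) : ℤ := Curv2.euler k A.left (rep c)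

theorem χc_cls {L : A.left.Modules} (hL : PicF.IsInvertible L) :
    χc (PicGrp.cls L hL) = Curv2.euler k A.left L := by
  obtain ⟨e⟩ := nonempty_rep_iso hL
  exact CurveRR.euler_eq_of_iso e

theorem factorial_mul {g : ℕ} (hA : topologicalKrullDim A.left = (g : WithBot ℕ∞)) (c : PicLoc.PicSet A.left) :
    (g.factorial : ℚ) * (χc c : ℚ) = top k (fun _ : Fin g => c) :=
  AVDeg.factorial_mul_euler hA c

theorem cast_eq {g : ℕ} (hA : topologicalKrullDim A.left = (g : WithBot ℕ∞)) (c : PicLoc.PicSet A.left) :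
    (χc c : ℚ) = top k (fun _ : Fin g => c) / g.factorial := by
  rw [← factorial_mul hA c, mul_div_cancel_left₀ _ (Nat.cast_ne_zero.2 g.factorial_ne_zero)]

theorem χc_inv {g : ℕ} (hA : topologicalKrullDim A.left = (g : WithBot ℕ∞)) (c : PicLoc.PicSet A.left) :
    χc c⁻¹ = (-1) ^ g * χc c := by
  have h := (topLin k hA.le).map_smul_univ (fun _ : Fin g => (-1 : ℤ)) (fun _ : Fin g => Additive.ofMul c)
  simp only [topLin_apply, neg_smul, one_smul, toMul_neg, toMul_ofMul, Finset.prod_const, Finset.card_univ,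
    Fintype.card_fin, zsmul_eq_mul, Int.cast_pow, Int.cast_neg, Int.cast_one] at h
  have h1 : (χc c⁻¹ : ℚ) = (((-1) ^ g * χc c : ℤ) : ℚ) := by
    push_cast
    rw [cast_eq hA, cast_eq hA, h, mul_div_assoc]
  exact_mod_cast h1

theorem χc_symm {g : ℕ} (hA : topologicalKrullDim A.left = (g : WithBot ℕ∞)) (c : PicLoc.PicSet A.left) :
    χc (c * pc c (𝟙 A)⁻¹) = 2 ^ g * χc c := by
  have h1 : (χc (c * pc c (𝟙 A)⁻¹) : ℚ) = ((2 ^ g * χc c : ℤ) : ℚ) := by
    push_cast
    rw [cast_eq hA, cast_eq hA, AVDeg.top_mul_inv hA c, mul_div_assoc]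
  exact_mod_cast h1

theorem exists_χc_ne_zero : ∃ c : PicLoc.PicSet A.left, χc c ≠ 0 := by
  haveI : Nonempty A.left := ⟨η[A].left (IsLocalRing.closedPoint k)⟩
  obtain ⟨g, hg⟩ := AVDeg.exists_dim A
  obtain ⟨H, hH, -⟩ := Groth.Agent.S8121.result k A
  refine ⟨PicGrp.cls H hH.1, fun h => (AVDeg.top_pos (k := k) hg hH).ne' ?_⟩
  rw [← factorial_mul hg, h, Int.cast_zero, mul_zero]

variable {B : Over (Spec (CommRingCat.of k))} [GrpObj B] [IsProper B.hom]
  [GeometricallyIntegral B.hom] [IsCommMonObj B]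

theorem χc_pc {g : ℕ} (hA : topologicalKrullDim A.left = (g : WithBot ℕ∞))
    (hB : topologicalKrullDim B.left = (g : WithBot ℕ∞)) (f : A ⟶ B) [IsMonHom f] (hf : IsFinite f.left)
    (b : B.left) (c : PicLoc.PicSet B.left) : χc (pc c f) = f.left.finrank b * χc c := by
  have h1 : (χc (pc c f) : ℚ) = ((f.left.finrank b * χc c : ℤ) : ℚ) := by
    push_cast
    rw [cast_eq hA, cast_eq hB, AVDeg.top_pc_finite hA hB f hf b, mul_div_assoc]
  exact_mod_cast h1

theorem isProper_tensor : IsProper (A ⊗ B).hom := by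
  haveI : IsProper (pullback.fst A.hom B.hom) := MorphismProperty.pullback_fst A.hom B.hom ‹_›
  exact inferInstanceAs (IsProper (pullback.fst A.hom B.hom ≫ A.hom))

theorem geometricallyIntegral_tensor : GeometricallyIntegral (A ⊗ B).hom := by
  haveI : LocallyOfFinitePresentation A.hom := by
    rw [LocallyOfFinitePresentation.iff_locallyOfFiniteType]; infer_instance
  exact W7Cube.geometricallyIntegral_prod (IsPullback.of_hasPullback A.hom B.hom) (A ⊗ B).hom rfl

theorem isCommMonObj_tensor : IsCommMonObj (A ⊗ B) := by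
  haveI := isProper_tensor (A := A) (B := B)
  haveI := geometricallyIntegral_tensor (A := A) (B := B)
  exact isCommMonObj_of_isProper_of_geometricallyIntegral (A ⊗ B)

attribute [local instance] isProper_tensor geometricallyIntegral_tensor isCommMonObj_tensor

/-- the external product of classes -/
def box (a : PicLoc.PicSet A.left) (b : PicLoc.PicSet B.left) : PicLoc.PicSet (A ⊗ B).left :=
  pc a (fst A B) * pc b (snd A B)

theorem χc_box (a : PicLoc.PicSet A.left) (b : PicLoc.PicSet B.left) :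
    χc (box a b) = χc a * χc b := by
  have h := euler_product k A.left B.left (rep a) (CurveRR.isCoh_of_inv (isInvertible_rep a)) (rep b)
    (CurveRR.isCoh_of_inv (isInvertible_rep b))
  refine Eq.trans ?_ h
  refine CurveRR.euler_eq_of_iso (k := k) (X := (A ⊗ B).left) (Nonempty.some ?_)
  refine (PicGrp.cl_eq_cl_iff _ _).1 ((congrArg Subtype.val (cls_rep (box a b))).trans ?_)
  have e1 : pull (fst A B).left a = PicGrp.cls _ (PicLoc.isInvertible_pullback (fst A B).left (isInvertible_rep a)) :=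
    (congrArg (pull (fst A B).left) (cls_rep a).symm).trans (pull_cls _ _ _)
  have e2 : pull (snd A B).left b = PicGrp.cls _ (PicLoc.isInvertible_pullback (snd A B).left (isInvertible_rep b)) :=
    (congrArg (pull (snd A B).left) (cls_rep b).symm).trans (pull_cls _ _ _)
  rw [box, pc, pc, e1, e2, PicGrp.cls_mul_cls_val]
  rfl

/-- dimensions add over products -/
theorem dim_tensor {g g' : ℕ} (hA : topologicalKrullDim A.left = (g : WithBot ℕ∞))
    (hB : topologicalKrullDim B.left = (g' : WithBot ℕ∞)) :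
    topologicalKrullDim (A ⊗ B).left = ((g + g' : ℕ) : WithBot ℕ∞) := by
  haveI : Nonempty (A ⊗ B).left := ⟨η[A ⊗ B].left (IsLocalRing.closedPoint k)⟩
  obtain ⟨n, hn⟩ := AVDeg.exists_dim (A ⊗ B)
  obtain ⟨q, hq⟩ := exists_χc_ne_zero (A := A)
  obtain ⟨r, hr⟩ := exists_χc_ne_zero (A := B)
  haveI := AVDeg.isMonHom_id_pow (A := A) 2
  haveI := AVDeg.isMonHom_id_pow (A := B) 2
  haveI := AVDeg.isMonHom_id_pow (A := A ⊗ B) 2
  have hfA : IsFinite (𝟙 A ^ 2).left := AVDeg.isFinite_pow_id (by norm_num)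
  have hfB : IsFinite (𝟙 B ^ 2).left := AVDeg.isFinite_pow_id (by norm_num)
  have hfP : IsFinite (𝟙 (A ⊗ B) ^ 2).left := AVDeg.isFinite_pow_id (by norm_num)
  let oA : A.left := η[A].left (IsLocalRing.closedPoint k)
  let oB : B.left := η[B].left (IsLocalRing.closedPoint k)
  let oP : (A ⊗ B).left := η[A ⊗ B].left (IsLocalRing.closedPoint k)
  have dA : ((𝟙 A ^ 2).left.finrank oA : ℤ) = 2 ^ (2 * g) := by
    rw [AVDeg.finrank_eq_deg hA _ hfA oA, AVDeg.deg_pow_id hA]; norm_num
  have dB : ((𝟙 B ^ 2).left.finrank oB : ℤ) = 2 ^ (2 * g') := by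
    rw [AVDeg.finrank_eq_deg hB _ hfB oB, AVDeg.deg_pow_id hB]; norm_num
  have dP : ((𝟙 (A ⊗ B) ^ 2).left.finrank oP : ℤ) = 2 ^ (2 * n) := by
    rw [AVDeg.finrank_eq_deg hn _ hfP oP, AVDeg.deg_pow_id hn]; norm_num
  have e : pc (box q r) (𝟙 (A ⊗ B) ^ 2) = box (pc q (𝟙 A ^ 2)) (pc r (𝟙 B ^ 2)) := by
    simp only [box, pc, map_mul, pull_pull, ← Over.comp_left]
    simp only [pow_two, MonObj.mul_comp, MonObj.comp_mul, Category.id_comp, Category.comp_id]
  have h := χc_pc hn hn _ hfP oP (box q r)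
  rw [e, χc_box, χc_box, χc_pc hA hA _ hfA oA, χc_pc hB hB _ hfB oB, dA, dB, dP] at h
  have h2 : (2 : ℤ) ^ (2 * g) * 2 ^ (2 * g') = 2 ^ (2 * n) :=
    mul_right_cancel₀ (mul_ne_zero hq hr) (by rw [← h]; ring)
  rw [← pow_add] at h2
  have := Nat.pow_right_injective (le_refl 2) (show 2 ^ (2 * g + 2 * g') = 2 ^ (2 * n) by exact_mod_cast h2)
  rw [hn, show n = g + g' by omega]

/-- dimensions double over self products -/
theorem dim_sq {g : ℕ} (hA : topologicalKrullDim A.left = (g : WithBot ℕ∞)) :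
    topologicalKrullDim (A ⊗ A).left = ((2 * g : ℕ) : WithBot ℕ∞) := by
  rw [dim_tensor hA hA, two_mul]

/-- Euler characteristics die along non-finite homomorphisms -/
theorem χc_pc_eq_zero {g : ℕ} (hA : topologicalKrullDim A.left = (g : WithBot ℕ∞))
    (hB : topologicalKrullDim B.left = (g : WithBot ℕ∞)) (f : A ⟶ B) [IsMonHom f] (hf : ¬ IsFinite f.left)
    (c : PicLoc.PicSet B.left) : χc (pc c f) = 0 := by
  have h := factorial_mul hA (pc c f)
  rw [AVDeg.top_pc_eq_zero hA hB f hf, mul_eq_zero] at h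
  exact_mod_cast h.resolve_left (Nat.cast_ne_zero.2 g.factorial_ne_zero)

end Groth.Agent.AVEuler
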