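import Groth.Agent.AVEuler.Polar

/-!
Mumford modules in terms of classes.
-/

set_option autoImplicit false
set_option backward.isDefEq.respectTransparency false
set_option backward.isDefEq.respectTransparency.types false
set_option linter.style.haveILetI false

universe u

open CategoryTheory CategoryTheory.Limits MonoidalCategory CartesianMonoidalCategory MonObj GrpObj AlgebraicGeometry
open Groth.Agent.W7Cube (pull pull_pull pc pull_pc pc_id pc_one pull_cls cube_rel)

noncomputable section

namespace Groth.Agent.AVEuler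

attribute [local instance] W7Cube.law

variable {k : Type u} [Field k] {A : Over (Spec (CommRingCat.of k))} [GrpObj A]

/-- the class of a Mumford module -/
theorem cl_mumford {L L' : A.left.Modules} (hL : PicF.IsInvertible L) (e : CohB1.tensorMod L L' ≅ Coh.structureModule A.left)
    {Λ : (PicF.XT A.hom A).Modules}
    (hΛ : Nonempty (Λ ≅ CohB1.tensorMod (CohB1.tensorMod ((Scheme.Modules.pullback μ[A].left).obj L) ((Scheme.Modules.pullback (fst A A).left).obj L')) ((Scheme.Modules.pullback (snd A A).left).obj L'))) :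
    (PicF.cl Λ : PicF.Cl (PicF.XT A.hom A)) = (AVMukai.lam (PicGrp.cls L hL) (fst A A) (snd A A)).1 := by
  have hL' : PicF.IsInvertible L' := by
    obtain ⟨N, hN, ⟨f⟩⟩ := W7Hull.exists_tensor_inverse hL
    let j : N ≅ L' := (SecTwist.unitorR N).symm ≪≫ PicGrp.tensorModIso (Iso.refl N) e.symm ≪≫
      (TMul.assocIso N L L').symm ≪≫ PicGrp.tensorModIso (TMul.commIso N L ≪≫ f) (Iso.refl L') ≪≫ TMul.leftUnitIso L'
    intro y
    obtain ⟨U, hy, ⟨i⟩⟩ := hN y
    exact ⟨U, hy, ⟨(Scheme.Modules.restrictFunctor U.ι).mapIso j.symm ≪≫ i⟩⟩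
  have e' : PicGrp.cls L' hL' = (PicGrp.cls L hL)⁻¹ := (PicGrp.cls_inv_eq_cls hL hL' ⟨e⟩).symm
  rw [AVMukai.lam, pc, pc, pc, ← map_inv, ← map_inv, ← e', show fst A A * snd A A = μ[A] from (MonObj.mul_eq_mul A).symm,
    pull_cls, pull_cls, pull_cls]
  refine ((PicGrp.cl_eq_cl_iff Λ _).2 hΛ).trans ?_
  let P1 := PicLoc.isInvertible_pullback μ[A].left hL
  let P2 := PicLoc.isInvertible_pullback (fst A A).left hL'
  let P3 := PicLoc.isInvertible_pullback (snd A A).left hL'
  rw [show PicGrp.cls _ P1 * PicGrp.cls _ P2 = PicGrp.cls _ (TMul.isInvertible_tensorMod P1 P2) from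
    Subtype.ext (PicGrp.cls_mul_cls_val P1 P2), PicGrp.cls_mul_cls_val]

end Groth.Agent.AVEuler
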