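import Groth.Agent.AVEuler.Square
import Groth.Agent.AVPoincare.Exists
import Groth.Agent.S14127
import Groth.Agent.RPushQC.Acyclic
import Groth.Agent.AVIndex.Core

/-!
`χ(c)² = deg φ_c` and the Euler characteristic of pullbacks of the Poincaré class.
-/

set_option autoImplicit false
set_option backward.isDefEq.respectTransparency false
set_option backward.isDefEq.respectTransparency.types false
set_option linter.style.haveILetI false
set_option linter.unusedSectionVars false
set_option maxHeartbeats 1000000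

universe u

open CategoryTheory CategoryTheory.Limits MonoidalCategory CartesianMonoidalCategory MonObj GrpObj AlgebraicGeometry
open Groth.Agent.W7Cube (pull pull_pull pc pull_pc pc_id pc_one pull_cls cube_rel)
open Groth.Agent.AbPrim (val pull_val)

noncomputable section

namespace Groth.Agent.AVEuler

attribute [local instance] W7Cube.law AVDeg.overInst
attribute [local instance] isProper_tensor geometricallyIntegral_tensor isCommMonObj_tensor

variable {k : Type u} [Field k]

/-- dimension of the product with an isogenous second factor -/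
theorem dim_prod_of_finite {X Y Y' : Over (Spec (CommRingCat.of k))}
    [GrpObj X] [IsProper X.hom] [GeometricallyIntegral X.hom] [IsCommMonObj X]
    [GrpObj Y] [IsProper Y.hom] [GeometricallyIntegral Y.hom] [IsCommMonObj Y]
    [GrpObj Y'] [IsProper Y'.hom] [GeometricallyIntegral Y'.hom] [IsCommMonObj Y']
    (f : Y ⟶ Y') [IsMonHom f] [IsFinite f.left] [Flat f.left] [Surjective f.left] {n : ℕ}
    (h : topologicalKrullDim (X ⊗ Y).left = (n : WithBot ℕ∞)) :
    topologicalKrullDim (X ⊗ Y').left = (n : WithBot ℕ∞) := by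
  haveI : Surjective (X ◁ f).left :=
    MorphismProperty.of_isPullback (P := @Surjective) (FMTool.isPullback_whiskerLeft (A := X) f).flip ‹_›
  haveI : IsFinite (X ◁ f).left :=
    MorphismProperty.of_isPullback (P := @IsFinite) (FMTool.isPullback_whiskerLeft (A := X) f).flip ‹_›
  haveI := AVDeg.isIntegral_av (X ⊗ Y)
  haveI := AVDeg.isIntegral_av (X ⊗ Y')
  exact (GrpField.dim_eq_of_isFinite (X ◁ f)).symm.trans h

/-- Euler characteristic of pullbacks along a second factor isogeny -/
theorem χc_whiskerLeft {X Y Y' : Over (Spec (CommRingCat.of k))}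
    [GrpObj X] [IsProper X.hom] [GeometricallyIntegral X.hom] [IsCommMonObj X]
    [GrpObj Y] [IsProper Y.hom] [GeometricallyIntegral Y.hom] [IsCommMonObj Y]
    [GrpObj Y'] [IsProper Y'.hom] [GeometricallyIntegral Y'.hom] [IsCommMonObj Y']
    (f : Y ⟶ Y') [IsMonHom f] [IsFinite f.left] [Flat f.left] [Surjective f.left] {d : ℕ}
    (hd : ∀ y, f.left.finrank y = d) {n : ℕ} (h : topologicalKrullDim (X ⊗ Y).left = (n : WithBot ℕ∞))
    (c : PicLoc.PicSet (X ⊗ Y').left) : χc (pc c (X ◁ f)) = d * χc c := by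
  haveI : IsFinite (X ◁ f).left :=
    MorphismProperty.of_isPullback (P := @IsFinite) (FMTool.isPullback_whiskerLeft (A := X) f).flip ‹_›
  let o : (X ⊗ Y').left := η[X ⊗ Y'].left (IsLocalRing.closedPoint k)
  rw [χc_pc h (dim_prod_of_finite f h) (X ◁ f) ‹_› o,
    Scheme.Hom.finrank_of_isPullback _ _ _ _ (FMTool.isPullback_whiskerLeft (A := X) f).flip o, hd]

variable {A At : Over (Spec (CommRingCat.of k))} [GrpObj A] [GrpObj At]
  [IsProper A.hom] [Smooth A.hom] [GeometricallyConnected A.hom]
  [IsProper At.hom] [Smooth At.hom] [GeometricallyConnected At.hom]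
  {φ : ∀ T : Over (Spec (CommRingCat.of k)), PicF.Cl (PicF.XT A.hom T) → (T ⟶ At)}
  (hA : AbDual.IsDualAV Scheme.fppfPrecoverage A At φ) (Q : AgSymm.Poincare φ)

include hA in
/-- the polarisation map is a homomorphism classifying the Mumford class -/
theorem exists_phi [GeometricallyIntegral A.hom] [IsCommMonObj A] (c : PicLoc.PicSet A.left) :
    IsMonHom (φ A (AVMukai.lam c (fst A A) (snd A A)).1) ∧
      pc Q.x (A ◁ φ A (AVMukai.lam c (fst A A) (snd A A)).1) = AVMukai.lam c (fst A A) (snd A A) := by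
  obtain ⟨l, hl⟩ := AVMukai.exists_lam hA Q c
  have hx : Q.cls l = AVMukai.lam c (fst A A) (snd A A) := hl (fst A A) (snd A A)
  have hφl : φ A (AVMukai.lam c (fst A A) (snd A A)).1 = l := by rw [← hx]; exact Q.phi_cls hA l
  rw [hφl]
  refine ⟨⟨?_, ?_⟩, (AVMukai.pull_whiskerLeft Q l).trans hx⟩
  · rw [show η[A] = (1 : 𝟙_ (Over (Spec (CommRingCat.of k))) ⟶ A) by
      rw [Hom.one_def, toUnit_unique (toUnit _) (𝟙 _), Category.id_comp]]
    rw [show η[At] = (1 : 𝟙_ (Over (Spec (CommRingCat.of k))) ⟶ At) by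
      rw [Hom.one_def, toUnit_unique (toUnit _) (𝟙 _), Category.id_comp]]
    refine AVMukai.eq_of_val hA Q ?_
    rw [← Category.assoc, comp_one, comp_one, hl, AVMukai.lam_comm, AVMukai.lam_one, Q.val_one_right hA]
  · rw [show μ[A] = fst A A * snd A A from MonObj.mul_eq_mul A,
      show (l ⊗ₘ l) ≫ μ[At] = (fst A A ≫ l) * (snd A A ≫ l) by
        rw [MonObj.mul_eq_mul, comp_mul, tensorHom_fst, tensorHom_snd]]
    refine AVMukai.eq_of_val hA Q ?_
    have hsym : ∀ {V : Over (Spec (CommRingCat.of k))} (f t : V ⟶ A),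
        val Q.x f (t ≫ l) = val Q.x t (f ≫ l) := fun f t => by rw [hl, hl, AVMukai.lam_comm]
    rw [comp_mul, Q.val_mul_right hA, ← Category.assoc, ← Category.assoc, ← Category.assoc, hsym, comp_mul,
      Q.val_mul_left, hsym (fst A (A ⊗ A)), hsym (fst A (A ⊗ A))]

variable [GeometricallyIntegral A.hom] [IsCommMonObj A] [GeometricallyIntegral At.hom] [IsCommMonObj At]

include hA in
/-- the Euler characteristic of a Poincaré class -/
theorem χc_poincare {g : ℕ} (hg : topologicalKrullDim A.left = (g : WithBot ℕ∞)) : χc Q.x = (-1) ^ g := by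
  haveI := RPushQC.hasInjectiveResolutions (pullback A.hom At.hom)
  obtain ⟨P, hP, hPx⟩ := PicGrp.exists_eq_cls Q.x
  have hξ : AbDual.IsPoincareCl A At φ (PicF.cl P) := by
    have e : (PicF.cl P : PicF.Cl (PicF.XT A.hom At)) = Q.x.1 := by rw [hPx]; rfl
    rw [e]
    exact ⟨Q.picZero, Q.phi, by
      have h := Q.rig
      rw [AbPrim.val_one_eq] at h
      exact congrArg Subtype.val h⟩
  obtain ⟨hv, h1, -, -⟩ := S14127.result k A At φ hA P hP hξ g hg
  have hX : IsProper (A ⊗ At).hom := isProper_tensor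
  rw [hPx, χc_cls, CurveRR.euler_eq_sum (k := k) (X := (A ⊗ At).left) P (g + 1) fun i hi => hv i (by omega),
    Finset.sum_eq_single g (fun i _ hi => ?_) (fun h => absurd (Finset.self_mem_range_succ g) h)]
  · simp only [CurveRR.h]
    erw [h1]
    simp
  · rw [CurveRR.h_eq_zero (k := k) (X := (A ⊗ At).left) (hv i hi), Nat.cast_zero, mul_zero]

include hA Q in
/-- **the square of the Euler characteristic is the degree of the polarisation map** -/
theorem χc_sq (c : PicLoc.PicSet A.left)
    [IsFinite (φ A (AVMukai.lam c (fst A A) (snd A A)).1).left] [Flat (φ A (AVMukai.lam c (fst A A) (snd A A)).1).left]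
    (d : ℕ) (hd : ∀ y : ↥At.left, Scheme.Hom.finrank (φ A (AVMukai.lam c (fst A A) (snd A A)).1).left y = d) :
    χc c ^ 2 = d := by
  obtain ⟨g, hg⟩ : ∃ g : ℕ, topologicalKrullDim A.left = (g : WithBot ℕ∞) := by
    haveI : Nonempty A.left := ⟨η[A].left (IsLocalRing.closedPoint k)⟩
    exact AVDeg.exists_dim A
  obtain ⟨hm, hx⟩ := exists_phi hA Q c
  haveI := hm
  obtain ⟨P, hP, hPx⟩ := PicGrp.exists_eq_cls Q.x
  haveI : IsLocallyNoetherian At.left := LocallyOfFiniteType.isLocallyNoetherian At.hom
  haveI : IsLocallyNoetherian A.left := LocallyOfFiniteType.isLocallyNoetherian A.hom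
  haveI := RPushQC.hasInjectiveResolutions (A ⊗ At).left
  have hgt := AVMukai.dim_eq hA Q hP hPx g hg
  haveI := AVDeg.isIntegral_av A
  haveI := AVDeg.isIntegral_av At
  haveI : IsLocallyNoetherian At.left := LocallyOfFiniteType.isLocallyNoetherian At.hom
  haveI : Surjective (φ A (AVMukai.lam c (fst A A) (snd A A)).1).left :=
    GrpField.surjective_of_isFinite _ (hg.trans hgt.symm)
  have h := χc_whiskerLeft (X := A) (φ A (AVMukai.lam c (fst A A) (snd A A)).1) hd (dim_sq hg) Q.x
  rw [hx, χc_lam hg, χc_poincare hA Q hg, mul_comm (d : ℤ)] at h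
  exact mul_left_cancel₀ (pow_ne_zero g (by norm_num)) h

include hA Q in
/-- a finite polarisation map leaves finitely many points fixing the class -/
theorem finite_stab [IsAlgClosed k] (c : PicLoc.PicSet A.left)
    [IsFinite (φ A (AVMukai.lam c (fst A A) (snd A A)).1).left] :
    {a : 𝟙_ (Over (Spec (CommRingCat.of k))) ⟶ A | pc c (𝟙 A * (toUnit A ≫ a)) = c}.Finite := by
  refine (AVIndex.finite_points_preimage (φ A (AVMukai.lam c (fst A A) (snd A A)).1) {1}
    (Set.finite_singleton _)).subset fun a ha => ?_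
  rw [Set.mem_setOf_eq] at ha ⊢
  rw [Set.mem_singleton_iff]
  obtain ⟨l, hl⟩ := AVMukai.exists_lam hA Q c
  have hφl : φ A (AVMukai.lam c (fst A A) (snd A A)).1 = l := by
    rw [← show Q.cls l = AVMukai.lam c (fst A A) (snd A A) from hl (fst A A) (snd A A)]; exact Q.phi_cls hA l
  rw [hφl]
  refine AVMukai.eq_of_val hA Q ?_
  rw [comp_one, Q.val_one_right hA, ← Category.assoc, hl, AVMukai.lam]
  have h := congrArg (pull (fst A (𝟙_ (Over (Spec (CommRingCat.of k))))).left) ha
  rw [pull_pc, MonObj.comp_mul, Category.comp_id, ← Category.assoc,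
    toUnit_unique (fst A (𝟙_ (Over (Spec (CommRingCat.of k)))) ≫ toUnit A) (snd A _)] at h
  rw [h, ← pc, mul_inv_cancel, _root_.one_mul, inv_eq_one,
    show snd A (𝟙_ (Over (Spec (CommRingCat.of k)))) ≫ a = toUnit _ ≫ a by rw [toUnit_unique (snd A _) (toUnit _)]]
  exact W7Cube.pc_const c a

end Groth.Agent.AVEuler
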