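import Groth.Agent.KunnethHH.Main
import Groth.Agent.CurveRR.Euler
import Groth.Agent.Nakai.AlgEquiv

/-!
Euler characteristics of external products over a field.
-/

set_option autoImplicit false
set_option backward.isDefEq.respectTransparency false
set_option backward.isDefEq.respectTransparency.types false
set_option linter.style.haveILetI false
set_option linter.unusedSectionVars false
set_option maxHeartbeats 1000000
set_option synthInstance.maxHeartbeats 200000

universe u

open CategoryTheory CategoryTheory.Limits AlgebraicGeometry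
open scoped TensorProduct

noncomputable section

namespace Groth.Agent.AVEuler

open CurveRR (h)

variable (k : Type u) [Field k] (X Y : Scheme.{u}) [X.Over (Spec (CommRingCat.of k))] [Y.Over (Spec (CommRingCat.of k))]
  [IsProper (X ↘ Spec (CommRingCat.of k))] [IsProper (Y ↘ Spec (CommRingCat.of k))]

/-- the product over the field -/
@[implicit_reducible]
def prodOver : (pullback (X ↘ Spec (CommRingCat.of k)) (Y ↘ Spec (CommRingCat.of k))).Over (Spec (CommRingCat.of k)) :=
  ⟨pullback.fst (X ↘ Spec (CommRingCat.of k)) (Y ↘ Spec (CommRingCat.of k)) ≫ (X ↘ Spec (CommRingCat.of k))⟩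

attribute [local instance] prodOver

/-- products of alternating sums -/
theorem sum_antidiagonal_mul (a b : ℕ → ℤ) (N : ℕ) (ha : ∀ i, N ≤ i → a i = 0) (hb : ∀ i, N ≤ i → b i = 0) :
    ∑ n ∈ Finset.range (2 * N), ∑ pq ∈ Finset.HasAntidiagonal.antidiagonal n, a pq.1 * b pq.2 =
      (∑ i ∈ Finset.range N, a i) * ∑ j ∈ Finset.range N, b j := by
  classical
  rw [Finset.sum_mul_sum, ← Finset.sum_biUnion fun m _ n _ hmn => Finset.disjoint_left.2 fun pq h h' => hmn
    ((Finset.HasAntidiagonal.mem_antidiagonal.1 h).symm.trans (Finset.HasAntidiagonal.mem_antidiagonal.1 h')),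
    ← Finset.sum_product']
  refine (Finset.sum_subset (fun pq hpq => ?_) fun pq hpq hn => ?_).symm
  · simp only [Finset.mem_product, Finset.mem_range] at hpq
    exact Finset.mem_biUnion.2 ⟨pq.1 + pq.2, Finset.mem_range.2 (by omega), Finset.HasAntidiagonal.mem_antidiagonal.2 rfl⟩
  · simp only [Finset.mem_product, Finset.mem_range, not_and_or, not_lt] at hn
    rcases hn with hn | hn
    · rw [ha _ hn, zero_mul]
    · rw [hb _ hn, mul_zero]

variable (F : X.Modules) (hF : Coh.IsCoh F) (G : Y.Modules) (hG : Coh.IsCoh G)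

/-- the external product -/
abbrev extMod : (pullback (X ↘ Spec (CommRingCat.of k)) (Y ↘ Spec (CommRingCat.of k))).Modules :=
  CohB1.tensorMod ((Scheme.Modules.pullback (pullback.fst (X ↘ Spec (CommRingCat.of k)) (Y ↘ Spec (CommRingCat.of k)))).obj F)
    ((Scheme.Modules.pullback (pullback.snd (X ↘ Spec (CommRingCat.of k)) (Y ↘ Spec (CommRingCat.of k)))).obj G)

include hF hG in
/-- dimensions of the cohomology of external products -/
theorem finrank_product (n : ℕ) : (h k (extMod k X Y F G) n : ℤ) =
    ∑ pq ∈ Finset.HasAntidiagonal.antidiagonal n, (h k F pq.1 : ℤ) * (h k G pq.2 : ℤ) := by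
  classical
  haveI := fun i => CohFinite.finite_proper k X F hF i
  haveI := fun i => CohFinite.finite_proper k Y G hG i
  obtain ⟨e⟩ := KunnethHH.nonempty_kunneth X Y F hF.1 G hG.1 (Nakai.isFlatOver_field k F) (fun p => @Module.Flat.of_free k _ _ _ _ (Module.Free.of_divisionRing k _)) n
  have he : ∑ pq : Finset.HasAntidiagonal.antidiagonal n, h k F pq.1.1 * h k G pq.1.2 = h k (extMod k X Y F G) n := by
    refine Eq.trans ?_ e.finrank_eq
    rw [Module.finrank_directSum]
    exact Finset.sum_congr rfl fun pq _ => Module.finrank_tensorProduct.symm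
  rw [← he]
  push_cast
  exact (Finset.sum_coe_sort _ (fun pq : ℕ × ℕ => (h k F pq.1 : ℤ) * (h k G pq.2 : ℤ)))

include hF hG in
/-- **Euler characteristics multiply over products** -/
theorem euler_product :
    Curv2.euler k (pullback (X ↘ Spec (CommRingCat.of k)) (Y ↘ Spec (CommRingCat.of k))) (extMod k X Y F G) =
      Curv2.euler k X F * Curv2.euler k Y G := by
  classical
  obtain ⟨N₁, -, hN₁⟩ := CurveRR.exists_bound k X
  obtain ⟨N₂, -, hN₂⟩ := CurveRR.exists_bound k Y
  obtain ⟨N, hF', hG'⟩ : ∃ N, (∀ i, N ≤ i → Subsingleton (Coh.HH X F i)) ∧ ∀ i, N ≤ i → Subsingleton (Coh.HH Y G i) :=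
    ⟨max N₁ N₂, fun i hi => hN₁ F hF.1 i ((le_max_left _ _).trans hi),
      fun i hi => hN₂ G hG.1 i ((le_max_right _ _).trans hi)⟩
  have hvan : ∀ n, 2 * N ≤ n → Subsingleton (Coh.HH _ (extMod k X Y F G) n) := fun n hn => by
    obtain ⟨e⟩ := KunnethHH.nonempty_kunneth X Y F hF.1 G hG.1 (Nakai.isFlatOver_field k F) (fun p => @Module.Flat.of_free k _ _ _ _ (Module.Free.of_divisionRing k _)) n
    haveI : ∀ pq : Finset.HasAntidiagonal.antidiagonal n, Subsingleton (Coh.HH X F pq.1.1 ⊗[k] Coh.HH Y G pq.1.2) := fun pq => by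
      have := Finset.HasAntidiagonal.mem_antidiagonal.1 pq.2
      rcases le_or_gt N pq.1.1 with h1 | h1
      · haveI := hF' _ h1; infer_instance
      · haveI := hG' pq.1.2 (by omega); infer_instance
    haveI : Subsingleton (DirectSum (Finset.HasAntidiagonal.antidiagonal n) fun pq =>
        Coh.HH X F pq.1.1 ⊗[k] Coh.HH Y G pq.1.2) := ⟨fun x y => DirectSum.ext_component k fun pq => Subsingleton.elim _ _⟩
    exact e.symm.injective.subsingleton
  rw [CurveRR.euler_eq_sum F N hF', CurveRR.euler_eq_sum G N hG', CurveRR.euler_eq_sum (extMod k X Y F G) (2 * N) hvan,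
    ← sum_antidiagonal_mul _ _ N (fun i hi => by rw [CurveRR.h_eq_zero (hF' i hi)]; simp)
      (fun i hi => by rw [CurveRR.h_eq_zero (hG' i hi)]; simp)]
  refine Finset.sum_congr rfl fun n _ => ?_
  rw [finrank_product k X Y F hF G hG n, Finset.mul_sum]
  refine Finset.sum_congr rfl fun pq hpq => ?_
  rw [← Finset.HasAntidiagonal.mem_antidiagonal.1 hpq, pow_add]
  ring

end Groth.Agent.AVEuler
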