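import Groth.Agent.AVEuler.Polar
import Groth.Agent.AVEuler.Smooth
import Groth.Agent.AgIsog.Kernel
import Groth.Agent.ThetaLib.Halve
import Groth.Agent.ThetaLib.KernelDesc

/-!
Symmetric homomorphisms to the dual come from modules over algebraically closed fields.
-/

set_option autoImplicit false
set_option backward.isDefEq.respectTransparency false
set_option backward.isDefEq.respectTransparency.types false
set_option linter.style.haveILetI false
set_option linter.unusedSectionVars false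
set_option maxHeartbeats 1000000
set_option synthInstance.maxHeartbeats 200000

universe u

open CategoryTheory CategoryTheory.Limits MonoidalCategory CartesianMonoidalCategory MonObj GrpObj AlgebraicGeometry
open Groth.Agent.W7Cube (pull pull_pull pc pull_pc pc_id pc_one pull_cls)
open Groth.Agent.AbPrim (val pull_val)

noncomputable section

namespace Groth.Agent.AVEuler

attribute [local instance] W7Cube.law AVDeg.overInst

variable {k : Type u} [Field k] {A At : Over (Spec (CommRingCat.of k))} [GrpObj A] [GrpObj At]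
  [IsProper A.hom] [Smooth A.hom] [GeometricallyConnected A.hom] [GeometricallyIntegral A.hom] [IsCommMonObj A]
  {φ : ∀ T : Over (Spec (CommRingCat.of k)), PicF.Cl (PicF.XT A.hom T) → (T ⟶ At)}
  (hA : AbDual.IsDualAV Scheme.fppfPrecoverage A At φ) (Q : AgSymm.Poincare φ)

theorem lam_pc (c : PicLoc.PicSet A.left) (h : A ⟶ A) [IsMonHom h] {V : Over (Spec (CommRingCat.of k))}
    (f t : V ⟶ A) : AVMukai.lam (pc c h) f t = AVMukai.lam c (f ≫ h) (t ≫ h) := by
  simp only [AVMukai.lam, pc, ← MonObj.mul_comp, Over.comp_left, ← pull_pull]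

include hA in
/-- the graph of a symmetric homomorphism doubles it -/
theorem lam_graph (l : A ⟶ At) [IsMonHom l]
    (hs : ∀ {V : Over (Spec (CommRingCat.of k))} (f t : V ⟶ A), val Q.x f (t ≫ l) = val Q.x t (f ≫ l))
    {V : Over (Spec (CommRingCat.of k))} (f t : V ⟶ A) :
    AVMukai.lam (val Q.x (𝟙 A) l) f t = val Q.x f (t ≫ l) * val Q.x f (t ≫ l) := by
  have e : ∀ a : V ⟶ A, pc (val Q.x (𝟙 A) l) a = val Q.x a (a ≫ l) := fun a => by
    rw [pc, pull_val, Category.comp_id]
  rw [AVMukai.lam, e, e, e, MonObj.mul_comp, Q.val_mul_left, Q.val_mul_right hA, Q.val_mul_right hA, hs t f]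
  apply Additive.ofMul.injective
  simp only [ofMul_mul, ofMul_inv]
  abel

include hA in
/-- **symmetric homomorphisms come from modules** -/
theorem exists_lam_of_symm [IsAlgClosed k] (l : A ⟶ At) [IsMonHom l] [IsCommMonObj At] [IsProper At.hom] [Smooth At.hom]
    [GeometricallyConnected At.hom] [GeometricallyIntegral At.hom]
    (hs : ∀ {V : Over (Spec (CommRingCat.of k))} (f t : V ⟶ A), val Q.x f (t ≫ l) = val Q.x t (f ≫ l)) :
    ∃ c : PicLoc.PicSet A.left,
      ∀ {V : Over (Spec (CommRingCat.of k))} (f t : V ⟶ A), val Q.x f (t ≫ l) = AVMukai.lam c f t := by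
  haveI : IsIntegral A.left := AVDeg.isIntegral_av A
  let m := val Q.x (𝟙 A) l
  obtain ⟨L, hL, hLm⟩ := PicGrp.exists_eq_cls (m * m)
  have hLl : ∀ {V : Over (Spec (CommRingCat.of k))} (f t : V ⟶ A),
      AVMukai.lam (PicGrp.cls L hL) f t = val Q.x f (t ≫ l) ^ 4 := fun {V} f t => by
    rw [← hLm, show val Q.x f (t ≫ l) ^ 4 =
      AVMukai.lam m f t * AVMukai.lam m f t by rw [lam_graph hA Q l hs]; simp only [pow_succ, pow_zero, _root_.one_mul, _root_.mul_assoc]]
    simp only [AVMukai.lam, pc, map_mul, _root_.mul_inv_rev]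
    apply Additive.ofMul.injective
    simp only [ofMul_mul, ofMul_inv]
    abel
  -- the multiplication by two and its kernel
  let f2 : A ⟶ A := 𝟙 A ^ 2
  haveI : IsMonHom f2 := AVDeg.isMonHom_id_pow (A := A) 2
  haveI : IsFinite f2.left := AVDeg.isFinite_pow_id (A := A) two_ne_zero
  have hf2 : Surjective f2.left := AVDeg.surjective_pow_id (A := A) two_ne_zero
  obtain ⟨N, hNg, i, hi, -, hpb, -⟩ := AgIsog.exists_kernel f2
  have hN : AlgGrp.IsKernel i f2 := IsPullback.of_map (Over.forget _) (by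
    apply Over.OverMorphism.ext
    rw [Over.comp_left, Over.comp_left, Over.toUnit_left]
    exact hpb.w) (by simpa [Over.toUnit_left] using hpb)
  haveI := hi
  have hfin : IsFinite N.hom := by
    haveI : IsFinite (toUnit N).left :=
      MorphismProperty.of_isPullback (P := @IsFinite) (hN.map (Over.forget _)) ‹IsFinite f2.left›
    exact ‹IsFinite (toUnit N).left›
  have hi2 : i ^ 2 = 1 := by
    have h := hN.w
    rw [show i ≫ f2 = i ^ 2 by rw [MonObj.comp_pow, Category.comp_id], ← Hom.one_def] at h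
    exact h
  have htriv : ∀ {T : Over (Spec (CommRingCat.of k))} (x : T ⟶ A), x ^ 4 = 1 →
      ThetaGrp.IsMumfordTriv A L x := fun {T} x hx => by
    refine (AVAmple.isMumfordTriv_iff L hL x).2 ⟨1, ?_⟩
    have e : AVAmple.mum (PicGrp.cls L hL) x = AVMukai.lam (PicGrp.cls L hL) (fst A T) (snd A T ≫ x) := by
      rw [AVAmple.mum, AVMukai.lam, _root_.mul_inv_rev, _root_.mul_comm (pc _ (snd A T ≫ x))⁻¹, ← _root_.mul_assoc]
    rw [e, hLl, ← Q.val_pow_right hA, ← MonObj.pow_comp, ← MonObj.comp_pow, hx, comp_one, MonObj.one_comp,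
      Q.val_one_right hA, map_one]
  have hi4 : ThetaGrp.IsMumfordTriv A L i := htriv i (by
    rw [show (4 : ℕ) = 2 * 2 from rfl, pow_mul, hi2, one_pow])
  obtain ⟨gm, h₁, h₂, h₃⟩ := ThetaLib.exists_split hL i (fun T a b => hN.hom_ext
    (by rw [MonObj.mul_comp, MonObj.mul_comp, _root_.mul_comm]) (toUnit_unique _ _)) hi4
    (ThetaLib.isIsotropic_two hL i hi2 htriv)
  obtain ⟨M, hM, ⟨e⟩⟩ := ThetaLib.exists_desc_of_lifts f2 hf2 hN hL gm h₁ h₂ h₃
  obtain ⟨l', hl'⟩ := AVMukai.exists_lam hA Q (PicGrp.cls M hM)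
  refine ⟨PicGrp.cls M hM, fun {V} f t => ?_⟩
  suffices l = l' by rw [this, hl']
  have hml' : IsMonHom l' := by
    obtain ⟨hm, -⟩ := exists_phi hA Q (PicGrp.cls M hM)
    have hx : Q.cls l' = AVMukai.lam (PicGrp.cls M hM) (fst A A) (snd A A) := hl' (fst A A) (snd A A)
    rwa [show φ A (AVMukai.lam (PicGrp.cls M hM) (fst A A) (snd A A)).1 = l' by
      rw [← hx]; exact Q.phi_cls hA l'] at hm
  -- both have the same fourth power
  have h4 : l' ^ 4 = l ^ 4 := by
    refine AVMukai.eq_of_val hA Q ?_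
    simp only [MonObj.comp_pow, Q.val_pow_right hA]
    rw [← hLl, show PicGrp.cls L hL = pc (PicGrp.cls M hM) f2 by
      rw [pc, pull_cls, PicGrp.cls_eq_cls_iff]; exact ⟨e.symm⟩, lam_pc, ← hl']
    simp only [f2, MonObj.comp_pow, Category.comp_id, MonObj.pow_comp]
    rw [Q.val_pow_right hA, map_pow_left' Q, ← pow_mul]
  have hcomp : ∀ g : A ⟶ At, IsMonHom g → (𝟙 A ^ 4) ≫ g = g ^ 4 := fun g hg => by
    haveI := hg
    rw [MonObj.pow_comp, Category.id_comp]
  haveI := AVDeg.isMonHom_id_pow (A := A) 4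
  haveI := AVDeg.isFinite_pow_id (A := A) (show (4 : ℕ) ≠ 0 by omega)
  haveI := AVDeg.surjective_pow_id (A := A) (show (4 : ℕ) ≠ 0 by omega)
  haveI := GrpField.flat_of_surjective (𝟙 A ^ 4)
  haveI : Epi (𝟙 A ^ 4).left := Flat.epi_of_flat_of_surjective _
  apply Over.OverMorphism.ext
  rw [← cancel_epi (𝟙 A ^ 4).left, ← Over.comp_left, ← Over.comp_left, hcomp l ‹_›, hcomp l' hml', h4]
where
  map_pow_left' (Q : AgSymm.Poincare φ) {V : Over (Spec (CommRingCat.of k))} (a : V ⟶ A) (t : V ⟶ At) (n : ℕ) :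
      val Q.x (a ^ n) t = val Q.x a t ^ n := by
    induction n with
    | zero => rw [pow_zero, pow_zero, Q.val_one_left]
    | succ m ih => rw [pow_succ, pow_succ, Q.val_mul_left, ih]

end Groth.Agent.AVEuler
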